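import Groth.Agent.EtModAcyc.Push
import Groth.Agent.EtModAcyc.ProperBC
import Groth.Agent.EtModShriek.Lift
import Groth.Agent.EtStrictLoc.CompExact
import Groth.Agent.GrothSS.CompAcyclicNat
import Groth.Agent.RDerLib.LES
import Mathlib

/-!
# Higher direct images of sheaves of modules and their underlying abelian sheaves; constant sheaves

Underlying abelian sheaves, linearity in the coefficient ring, and the decomposition of a constant sheaf
of modules killed by a prime along a basis.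
-/

set_option autoImplicit false
set_option backward.isDefEq.respectTransparency false
set_option backward.isDefEq.respectTransparency.types false
set_option linter.style.haveILetI false
set_option linter.unusedSectionVars false
set_option linter.auxLemma false
set_option maxHeartbeats 800000
set_option synthInstance.maxHeartbeats 400000

universe u

open CategoryTheory CategoryTheory.Limits AlgebraicGeometry Opposite

noncomputable section

namespace Groth.Agent.EtModCons

open Groth.Agent.EtModAcyc (F₀)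
open Groth.Agent.EtModShriek (smul' IsLin smul'_comm)

variable (Λ : Type (u + 1)) [CommRing Λ] {X Y : Scheme.{u}}

/-- **underlying abelian sheaves of higher direct images of modules** -/
theorem nonempty_rpushForget (f : X ⟶ Y) (q : ℕ) :
    Nonempty (EtModW.Rpush Λ f q ⋙ F₀ Λ Y ≅ F₀ Λ X ⋙ EtCoh.Rpush f q) := by
  obtain ⟨_, _, _, _⟩ := EtModAcyc.forget_exact Λ X
  obtain ⟨_, _, _, _⟩ := EtModAcyc.forget_exact Λ Y
  haveI : (F₀ Λ Y).PreservesHomology := Functor.preservesHomologyOfExact _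
  haveI : (EtCoh.push f).IsRightAdjoint := (EtCoh.pullPushAdj f).isRightAdjoint
  obtain ⟨e⟩ := GrothSS.nonempty_rightDerived_comp_acyclic_nat (F₀ Λ X) (EtCoh.push f)
    (fun Q hQ k => haveI := hQ; EtModAcyc.isZero_Rpush_of_flq f _ (EtModAcyc.flq_injective Q) (k + 1) k.succ_pos) q
  exact ⟨(EtStrictLoc.rightDerivedCompExactIso (EtModW.push Λ f) (F₀ Λ Y) q).symm ≪≫ e⟩

theorem isLin_Rpush (f : X ⟶ Y) : ∀ q : ℕ, IsLin (EtModW.Rpush Λ f q) := by
  intro q
  haveI : PreservesLimitsOfSize.{0, 0} (EtModW.push Λ f) := (EtSix.pullPushModAdj Λ f).rightAdjoint_preservesLimits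
  haveI : PreservesFiniteLimits (EtModW.push Λ f) := inferInstance
  induction q with
  | zero =>
    intro r M
    let e := (EtModW.push Λ f).rightDerivedZeroIsoSelf
    have h := e.hom.naturality (smul' Λ r M)
    refine (Iso.cancel_iso_hom_right _ _ (e.app M)).1 ?_
    refine h.trans (Eq.trans ?_ (smul'_comm Λ r (e.hom.app M)).symm)
    exact congrArg (e.hom.app M ≫ ·) (EtModShriek.isLin_push (Λ := Λ) f r M)
  | succ q ih =>
    intro r M
    let S : ShortComplex (EtModW.Mod Λ X) :=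
      ShortComplex.mk (Injective.ι M) (cokernel.π _) (cokernel.condition _)
    have hS : S.ShortExact := { exact := ShortComplex.exact_of_g_is_cokernel _ (cokernelIsCokernel _) }
    let Δ := RDerLib.derivedLES (EtModW.push Λ f)
    let φ : S ⟶ S :=
      { τ₁ := smul' Λ r _, τ₂ := smul' Λ r _, τ₃ := smul' Λ r _
        comm₁₂ := smul'_comm Λ r _, comm₂₃ := smul'_comm Λ r _ }
    haveI : Injective S.X₂ := inferInstanceAs (Injective (Injective.under M))
    haveI : Epi (Δ.δ S hS q (q + 1) rfl) := (Δ.exact₁ S hS q (q + 1) rfl).epi_f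
      (((EtModW.push Λ f).isZero_rightDerived_obj_injective_succ q S.X₂).eq_of_tgt _ _)
    have h := Δ.δ_natural hS hS φ q (q + 1) rfl
    refine (cancel_epi (Δ.δ S hS q (q + 1) rfl)).1 ?_
    refine h.symm.trans ?_
    rw [← smul'_comm Λ r (Δ.δ S hS q (q + 1) rfl)]
    exact congrArg (· ≫ Δ.δ S hS q (q + 1) rfl) (ih r S.X₃)

/-- forgetting the module structure preserves sheafification -/
theorem preservesSheafification_forget (X : Scheme.{u}) :
    X.smallEtaleTopology.PreservesSheafification (forget₂ (ModuleCat.{u + 1} Λ) AddCommGrpCat.{u + 1}) where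
  le := fun P Q f hf => by
    rw [GrothendieckTopology.W_iff_isLocallyBijective] at hf
    obtain ⟨hi, hs⟩ := hf
    change X.smallEtaleTopology.W _
    rw [GrothendieckTopology.W_iff_isLocallyBijective]
    exact ⟨⟨fun x y h => hi.1 x y h⟩, ⟨fun s => hs.1 s⟩⟩

attribute [local instance 100000] preservesSheafification_forget

section Const

variable (M : Type (u + 1)) [AddCommGroup M] [Module Λ M] (X)

/-- multiplication on a constant sheaf is the constant map -/
theorem map_smul_const (r : Λ) :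
    (constantSheaf X.smallEtaleTopology (ModuleCat.{u + 1} Λ)).map (ModuleCat.ofHom (LinearMap.lsmul Λ M r)) =
      smul' Λ r (EtModW.constMod Λ X M) := by
  refine Sheaf.hom_ext ?_
  refine sheafify_hom_ext _ _ _ (EtModW.constMod Λ X M).property ?_
  refine ((toSheafify_naturality X.smallEtaleTopology
    ((Functor.const X.Etaleᵒᵖ).map (ModuleCat.ofHom (LinearMap.lsmul Λ M r) : ModuleCat.of Λ M ⟶ _))).symm).trans ?_
  refine NatTrans.ext (funext fun V => ModuleCat.hom_ext (LinearMap.ext fun x => ?_))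
  exact ((toSheafify X.smallEtaleTopology ((Functor.const X.Etaleᵒᵖ).obj (ModuleCat.of Λ M))).app V).hom.map_smul r x

variable {ℓ : ℕ} (hℓ : ∀ m : M, ℓ • m = 0)

/-- the multiples of an element -/
def zh (a : M) : { f : ℤ →+ M // f ℓ = 0 } :=
  ⟨zmultiplesHom M a, by
    show ((ℓ : ℕ) : ℤ) • a = 0
    rw [natCast_zsmul, hℓ]⟩

/-- the map classified by an element -/
def hm (a : M) : AddCommGrpCat.of (ULift.{u + 1} (ZMod ℓ)) ⟶
    (forget₂ (ModuleCat.{u + 1} Λ) AddCommGrpCat.{u + 1}).obj (ModuleCat.of Λ M) :=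
  AddCommGrpCat.ofHom ((ZMod.lift ℓ (zh M hℓ a)).comp AddEquiv.ulift.toAddMonoidHom)

theorem hm_apply (a : M) (z : ℤ) : (hm Λ M hℓ a) ⟨((z : ℤ) : ZMod ℓ)⟩ = z • a := by
  exact ZMod.lift_coe ℓ (zh M hℓ a) z

theorem hm_smul (r : Λ) (a : M) :
    hm Λ M hℓ (r • a) = hm Λ M hℓ a ≫
      (forget₂ (ModuleCat.{u + 1} Λ) AddCommGrpCat.{u + 1}).map (ModuleCat.ofHom (LinearMap.lsmul Λ M r)) := by
  refine AddCommGrpCat.hom_ext (AddMonoidHom.ext fun ⟨c⟩ => ?_)
  obtain ⟨z, rfl⟩ := ZMod.intCast_surjective c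
  refine (hm_apply Λ M hℓ (r • a) z).trans ?_
  show z • r • a = r • (hm Λ M hℓ a) ⟨((z : ℤ) : ZMod ℓ)⟩
  rw [hm_apply, smul_comm]

theorem hm_add (a b : M) : hm Λ M hℓ (a + b) = hm Λ M hℓ a + hm Λ M hℓ b := by
  refine AddCommGrpCat.hom_ext (AddMonoidHom.ext fun ⟨c⟩ => ?_)
  obtain ⟨z, rfl⟩ := ZMod.intCast_surjective c
  show (hm Λ M hℓ (a + b)) ⟨((z : ℤ) : ZMod ℓ)⟩ =
    (hm Λ M hℓ a) ⟨((z : ℤ) : ZMod ℓ)⟩ + (hm Λ M hℓ b) ⟨((z : ℤ) : ZMod ℓ)⟩
  rw [hm_apply, hm_apply, hm_apply, smul_add]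

/-- the summand of the constant sheaf of modules attached to an element -/
def cm (a : M) : EtCoh.const X (ZMod ℓ) ⟶ (F₀ Λ X).obj (EtModW.constMod Λ X M) :=
  (constantSheaf X.smallEtaleTopology AddCommGrpCat.{u + 1}).map (hm Λ M hℓ a) ≫
    (constantCommuteCompose X.smallEtaleTopology (forget₂ (ModuleCat.{u + 1} Λ) AddCommGrpCat.{u + 1})).inv.app
      (ModuleCat.of Λ M)

theorem cm_smul (r : Λ) (a : M) :
    cm Λ X M hℓ (r • a) = cm Λ X M hℓ a ≫ (F₀ Λ X).map (smul' Λ r (EtModW.constMod Λ X M)) := by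
  rw [← map_smul_const]
  dsimp only [cm]
  rw [hm_smul, Functor.map_comp, Category.assoc, Category.assoc]
  exact congrArg _ ((constantCommuteCompose X.smallEtaleTopology
    (forget₂ (ModuleCat.{u + 1} Λ) AddCommGrpCat.{u + 1})).inv.naturality (ModuleCat.ofHom (LinearMap.lsmul Λ M r)))

theorem cm_add (a b : M) : cm Λ X M hℓ (a + b) = cm Λ X M hℓ a + cm Λ X M hℓ b := by
  haveI : (constantSheaf X.smallEtaleTopology AddCommGrpCat.{u + 1}).Additive :=
    (constantSheafAdj _ _ (EtCore.topIsTerminal X)).left_adjoint_additive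
  dsimp only [cm]
  rw [hm_add, Functor.map_add, Preadditive.add_comp]

variable [Fact ℓ.Prime] [Module (ZMod ℓ) M] {I : Type (u + 1)} (b : Module.Basis I (ZMod ℓ) M)

/-- a basis gives a coproduct decomposition -/
def isColimit_hm : IsColimit (Cofan.mk ((forget₂ (ModuleCat.{u + 1} Λ) AddCommGrpCat.{u + 1}).obj (ModuleCat.of Λ M))
    fun i => hm Λ M hℓ (b i)) := by
  have key : ∀ (i : I) (z : ℤ), b.repr ((hm Λ M hℓ (b i)) ⟨((z : ℤ) : ZMod ℓ)⟩ : M) = Finsupp.single i (z : ZMod ℓ) :=
    fun i z => by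
    refine (congrArg b.repr (hm_apply Λ M hℓ (b i) z)).trans ?_
    rw [map_zsmul, b.repr_self, Finsupp.smul_single, zsmul_one]
  refine Cofan.IsColimit.mk _ (fun s => AddCommGrpCat.ofHom
    ((Finsupp.liftAddHom fun i => (s.inj i).hom.comp AddEquiv.ulift.symm.toAddMonoidHom).comp
      (b.repr : M →ₗ[ZMod ℓ] I →₀ ZMod ℓ).toAddMonoidHom)) (fun s i => ?_) fun s m hm' => ?_
  · refine AddCommGrpCat.hom_ext (AddMonoidHom.ext fun ⟨c⟩ => ?_)
    obtain ⟨z, rfl⟩ := ZMod.intCast_surjective c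
    show Finsupp.liftAddHom (fun i => (s.inj i).hom.comp AddEquiv.ulift.symm.toAddMonoidHom)
      (b.repr ((hm Λ M hℓ (b i)) ⟨((z : ℤ) : ZMod ℓ)⟩ : M)) = _
    rw [key, Finsupp.liftAddHom_apply_single]
    rfl
  · refine AddCommGrpCat.hom_ext ?_
    let g : (I →₀ ZMod ℓ) →+ (s.pt : Type (u + 1)) := m.hom.comp (b.repr.symm : (I →₀ ZMod ℓ) →ₗ[ZMod ℓ] M).toAddMonoidHom
    have hg : g = Finsupp.liftAddHom fun i => (s.inj i).hom.comp AddEquiv.ulift.symm.toAddMonoidHom := by
      refine Finsupp.addHom_ext fun i c => ?_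
      obtain ⟨z, rfl⟩ := ZMod.intCast_surjective c
      rw [Finsupp.liftAddHom_apply_single]
      refine Eq.trans ?_ (ConcreteCategory.congr_hom (hm' i) ⟨((z : ℤ) : ZMod ℓ)⟩)
      exact congrArg m.hom ((congrArg b.repr.symm (key i z).symm).trans (b.repr.symm_apply_apply _))
    refine AddMonoidHom.ext fun x => ?_
    refine Eq.trans ?_ (DFunLike.congr_fun hg (b.repr x))
    exact congrArg m.hom (b.repr.symm_apply_apply x).symm

/-- **a constant sheaf of modules killed by a prime is a coproduct of constant sheaves** -/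
def isColimit_cm : IsColimit (Cofan.mk ((F₀ Λ X).obj (EtModW.constMod Λ X M)) fun i => cm Λ X M hℓ (b i)) := by
  haveI : (constantSheaf X.smallEtaleTopology AddCommGrpCat.{u + 1}).IsLeftAdjoint :=
    (constantSheafAdj _ _ (EtCore.topIsTerminal X)).isLeftAdjoint
  refine IsColimit.ofIsoColimit (isColimitCofanMkObjOfIsColimit (constantSheaf X.smallEtaleTopology AddCommGrpCat.{u + 1})
    _ _ (isColimit_hm Λ M hℓ b)) ?_
  exact Cocone.ext ((constantCommuteCompose X.smallEtaleTopology
    (forget₂ (ModuleCat.{u + 1} Λ) AddCommGrpCat.{u + 1})).symm.app (ModuleCat.of Λ M)) fun ⟨i⟩ => rfl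

end Const

end Groth.Agent.EtModCons
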