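import Groth.Agent.EtRshriek.CoprodSheaf
import Groth.Agent.EtRshriek.Coprod
import Groth.Agent.ToposColim.Push
import Mathlib

/-!
# Higher direct images along qcqs morphisms commute with coproducts
-/

set_option autoImplicit false
set_option backward.isDefEq.respectTransparency false
set_option backward.isDefEq.respectTransparency.types false
set_option linter.style.haveILetI false
set_option linter.unusedSectionVars false
set_option maxHeartbeats 800000

universe u

open CategoryTheory CategoryTheory.Limits AlgebraicGeometry Opposite

noncomputable section

namespace Groth.Agent.EtModCons

variable {X Y : Scheme.{u}} (f : X ⟶ Y) [QuasiCompact f] [QuasiSeparated f]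

/-- higher direct images commute with filtered colimits -/
theorem preservesFilteredColimits_Rpush (q : ℕ) (J : Type (u + 1)) [SmallCategory J] [IsFiltered J] :
    PreservesColimitsOfShape J (EtCoh.Rpush f q) := by
  haveI := EtRshriek.preservesFilteredColimits_push f J
  haveI : (EtCoh.push f).IsRightAdjoint := (EtCoh.pullPushAdj f).isRightAdjoint
  refine ToposColim.preservesColimitsOfShape_rightDerived (EtCoh.push f) (fun F hF n => ?_) q
  exact EtColimH.isZero_rpush_of_cac f n _
    (EtColimH.cac_of_isColimit (colimit.isColimit F) fun j => haveI := hF j; EtColimH.cac_injective _)

/-- higher direct images commute with coproducts -/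
theorem preservesCoproducts_Rpush (q : ℕ) (T : Type (u + 1)) :
    PreservesColimitsOfShape (Discrete T) (EtCoh.Rpush f q) := by
  haveI := preservesFilteredColimits_Rpush f q (Finset (Discrete T))
  exact EtRshriek.preservesCoproducts_of_filtered (EtCoh.Rpush f q) T

end Groth.Agent.EtModCons
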