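import Groth.Agent.EtModCons.Forget
import Groth.Agent.EtModCons.Colim
import Groth.Agent.EtTrivGen.Germ
import Groth.Agent.EtFLC.Triv
import Groth.Agent.EtPBC.ConstKilled
import Groth.Agent.EtBCQ.Chase
import Mathlib

/-!
# Local constancy of higher direct images of constant sheaves of modules killed by a prime

Along a basis of the coefficient module the higher direct image is a coproduct of copies of the higher direct image of
`ℤ/ℓ`; where that one is finite locally constant with value `V`, the sheaf of modules has value `M ⊗ V`.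
-/

set_option autoImplicit false
set_option backward.isDefEq.respectTransparency false
set_option backward.isDefEq.respectTransparency.types false
set_option linter.style.haveILetI false
set_option linter.unusedSectionVars false
set_option linter.auxLemma false
set_option maxHeartbeats 1000000
set_option synthInstance.maxHeartbeats 400000

universe u

open CategoryTheory CategoryTheory.Limits AlgebraicGeometry Opposite
open scoped TensorProduct

noncomputable section

namespace Groth.Agent.EtModCons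

open Groth.Agent.EtModAcyc (F₀)
open Groth.Agent.EtModShriek (smul')

section Algebra

/-- a coproduct of copies of one group consists of finitely supported families -/
theorem bijective_liftAddHom_of_isColimit {I : Type (u + 1)} {P Q : AddCommGrpCat.{u + 1}} (φ : I → (P ⟶ Q))
    (h : IsColimit (Cofan.mk Q φ)) :
    Function.Bijective (Finsupp.liftAddHom fun i => (φ i).hom : (I →₀ (P : Type (u + 1))) →+ (Q : Type (u + 1))) := by
  let c : Cofan fun _ : I => P :=
    Cofan.mk (AddCommGrpCat.of (I →₀ (P : Type (u + 1)))) fun i => AddCommGrpCat.ofHom (Finsupp.singleAddHom i)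
  let hc : IsColimit c := Cofan.IsColimit.mk _ (fun s => AddCommGrpCat.ofHom (Finsupp.liftAddHom fun i => (s.inj i).hom))
    (fun s i => AddCommGrpCat.hom_ext (AddMonoidHom.ext fun p => Finsupp.liftAddHom_apply_single _ i p))
    (fun s m hm => AddCommGrpCat.hom_ext (Finsupp.addHom_ext fun i p =>
      (ConcreteCategory.congr_hom (hm i) p).trans
        (Finsupp.liftAddHom_apply_single (fun i => (s.inj i).hom) i p).symm))
  haveI : IsIso (hc.desc (Cofan.mk Q φ)) := (hc.coconePointUniqueUpToIso h).isIso_hom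
  exact (ConcreteCategory.isIso_iff_bijective (hc.desc (Cofan.mk Q φ))).1 inferInstance

variable {ℓ : ℕ} [Fact ℓ.Prime] {M : Type (u + 1)} [AddCommGroup M] [Module (ZMod ℓ) M]
  {V : Type} [AddCommGroup V] [Module (ZMod ℓ) V] {I : Type (u + 1)} (b : Module.Basis I (ZMod ℓ) M)

/-- a basis decomposes tensor products with a vector space -/
def theta : (I →₀ V) →+ M ⊗[ℤ] V :=
  Finsupp.liftAddHom fun i => AddMonoidHom.mk' (fun v => b i ⊗ₜ[ℤ] v) fun v w => TensorProduct.tmul_add _ v w

theorem bijective_theta : Function.Bijective (theta b : (I →₀ V) →+ M ⊗[ℤ] V) := by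
  let β : M →+ V →+ (I →₀ V) := AddMonoidHom.mk'
    (fun a => AddMonoidHom.mk' (fun v => (b.repr a).mapRange (fun c => c • v) (zero_smul _ v))
      fun v w => Finsupp.ext fun i => by simp [smul_add])
    fun a a' => AddMonoidHom.ext fun v => Finsupp.ext fun i => by simp [add_smul]
  let Ξ : M ⊗[ℤ] V →+ (I →₀ V) := TensorProduct.liftAddHom β fun z a v => by
    rw [map_zsmul, map_zsmul]
    rfl
  have h1 : ∀ x : I →₀ V, Ξ (theta b x) = x := by
    refine fun x => DFunLike.congr_fun (show Ξ.comp (theta b) = AddMonoidHom.id _ from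
      Finsupp.addHom_ext fun i v => ?_) x
    show Ξ (theta b (Finsupp.single i v)) = Finsupp.single i v
    rw [theta, Finsupp.liftAddHom_apply_single]
    show (b.repr (b i)).mapRange (fun c => c • v) (zero_smul _ v) = Finsupp.single i v
    rw [b.repr_self, Finsupp.mapRange_single, one_smul]
  have h2 : ∀ y : M ⊗[ℤ] V, theta b (Ξ y) = y := by
    intro y
    induction y using TensorProduct.induction_on with
    | zero => rw [map_zero, map_zero]
    | add y y' hy hy' => rw [map_add, map_add, hy, hy']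
    | tmul a v =>
      show theta b ((b.repr a).mapRange (fun c => c • v) (zero_smul _ v)) = a ⊗ₜ[ℤ] v
      obtain ⟨x, rfl⟩ : ∃ x, a = b.repr.symm x := ⟨b.repr a, (b.repr.symm_apply_apply a).symm⟩
      rw [LinearEquiv.apply_symm_apply]
      induction x using Finsupp.induction_linear with
      | zero => simp
      | add x x' hx hx' =>
        rw [Finsupp.mapRange_add (fun c d => add_smul c d v), map_add, hx, hx', ← TensorProduct.add_tmul, map_add]
      | single i c =>
        obtain ⟨z, rfl⟩ := ZMod.intCast_surjective c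
        rw [Finsupp.mapRange_single, theta, Finsupp.liftAddHom_apply_single, b.repr_symm_single,
          Int.cast_smul_eq_zsmul, Int.cast_smul_eq_zsmul, ← TensorProduct.smul_tmul']
        exact TensorProduct.tmul_smul z (b i) v
  exact Function.bijective_iff_has_inverse.2 ⟨Ξ, h1, h2⟩

/-- tensoring a finite module with a finite group -/
theorem finite_tensor (Λ : Type (u + 1)) [CommRing Λ] (M : Type (u + 1)) [AddCommGroup M] [Module Λ M]
    [Module.Finite Λ M] (V : Type) [AddCommGroup V] [Finite V] : Module.Finite Λ (M ⊗[ℤ] V) := by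
  classical
  obtain ⟨S, hS⟩ := Module.Finite.fg_top (R := Λ) (M := M)
  haveI := Fintype.ofFinite V
  refine ⟨(S ×ˢ (Finset.univ : Finset V)).image (fun p => p.1 ⊗ₜ[ℤ] p.2), eq_top_iff.2 fun x hx' => ?_⟩
  clear hx'
  induction x using TensorProduct.induction_on with
  | zero => exact Submodule.zero_mem _
  | add x y hx hy => exact Submodule.add_mem _ hx hy
  | tmul m v =>
    have hm : m ∈ Submodule.span Λ (S : Set M) := by rw [hS]; trivial
    induction hm using Submodule.span_induction with
    | mem a ha => exact Submodule.subset_span (Finset.mem_image.2 ⟨(a, v), Finset.mem_product.2 ⟨ha, Finset.mem_univ _⟩, rfl⟩)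
    | zero => rw [TensorProduct.zero_tmul]; exact Submodule.zero_mem _
    | add a c _ _ ha hc => rw [TensorProduct.add_tmul]; exact Submodule.add_mem _ ha hc
    | smul r a _ ha => rw [← TensorProduct.smul_tmul']; exact Submodule.smul_mem _ r ha

end Algebra

variable (Λ : Type (u + 1)) [CommRing Λ] (M : Type (u + 1)) [AddCommGroup M] [Module Λ M]

theorem isFTLocConst_pull_Rpush_basis {X S T : Scheme.{u}} (f : X ⟶ S) [QuasiCompact f] [QuasiSeparated f]
    (ℓ : ℕ) [Fact ℓ.Prime] (hℓ : ∀ m : M, ℓ • m = 0) [Module.Finite Λ M] [Module (ZMod ℓ) M]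
    {I : Type (u + 1)} (b : Module.Basis I (ZMod ℓ) M) (q : ℕ) (g : T ⟶ S)
    (hG : EtCoh.IsFiniteLocallyConstant ((EtCoh.pull g).obj ((EtCoh.Rpush f q).obj (EtCoh.const X (ZMod ℓ))))) :
    EtModW.IsFTLocConst Λ ((EtModW.pull Λ g).obj ((EtModW.Rpush Λ f q).obj (EtModW.constMod Λ X M))) := by
  let C := EtModW.constMod Λ X M
  let A := (EtCoh.pull g).obj ((EtCoh.Rpush f q).obj (EtCoh.const X (ZMod ℓ)))
  let R' := (EtModW.pull Λ g).obj ((EtModW.Rpush Λ f q).obj C)
  let B := (F₀ Λ T).obj R'
  obtain ⟨N⟩ := nonempty_rpushForget Λ f q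
  let pc : (EtCoh.pull g).obj ((F₀ Λ S).obj ((EtModW.Rpush Λ f q).obj C)) ⟶ B :=
    EtModAcyc.τ Λ g ((EtModW.Rpush Λ f q).obj C)
  haveI : IsIso pc := ModCstAcyc.isIso_pullCmp Λ (EtCoh.bc g) _
  let ψ : M → (A ⟶ B) := fun a =>
    (EtCoh.pull g).map ((EtCoh.Rpush f q).map (cm Λ X M hℓ a) ≫ N.inv.app C) ≫ pc
  haveI : (EtCoh.pull g).Additive := (EtCoh.pullPushAdj g).left_adjoint_additive
  haveI : (EtCoh.pull g).IsLeftAdjoint := (EtCoh.pullPushAdj g).isLeftAdjoint
  have hψadd : ∀ a a', ψ (a + a') = ψ a + ψ a' := fun a a' => by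
    simp only [ψ, cm_add, Functor.map_add, Preadditive.add_comp]
  have hψsmul : ∀ (r : Λ) (a : M), ψ (r • a) = ψ a ≫ (F₀ Λ T).map (smul' Λ r R') := fun r a => by
    have hnat := N.inv.naturality (smul' Λ r C)
    have hlin : (EtModW.Rpush Λ f q).map (smul' Λ r C) = smul' Λ r _ := isLin_Rpush Λ f q r C
    have hlin' : (EtModW.pull Λ g).map (smul' Λ r _) = smul' Λ r R' :=
      EtModShriek.isLin_pull (Λ := Λ) g r ((EtModW.Rpush Λ f q).obj C)
    have h1 : (EtCoh.Rpush f q).map (cm Λ X M hℓ (r • a)) ≫ N.inv.app C =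
        ((EtCoh.Rpush f q).map (cm Λ X M hℓ a) ≫ N.inv.app C) ≫
          (F₀ Λ S).map (smul' Λ r ((EtModW.Rpush Λ f q).obj C)) := by
      rw [cm_smul, Functor.map_comp, Category.assoc, Category.assoc, ← hlin]
      exact congrArg _ hnat
    have h2 : (EtCoh.pull g).map ((F₀ Λ S).map (smul' Λ r ((EtModW.Rpush Λ f q).obj C))) ≫ pc =
        pc ≫ (F₀ Λ T).map ((EtModW.pull Λ g).map (smul' Λ r ((EtModW.Rpush Λ f q).obj C))) :=
      ModCstAcyc.pullCmp_natural Λ (EtCoh.bc g) (smul' Λ r ((EtModW.Rpush Λ f q).obj C))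
    simp only [ψ]
    rw [h1, Functor.map_comp, Category.assoc, Category.assoc, h2, hlin']
  have hcol : IsColimit (Cofan.mk B fun i => ψ (b i)) := by
    haveI := preservesCoproducts_Rpush f q I
    refine IsColimit.ofIsoColimit (isColimitCofanMkObjOfIsColimit (EtCoh.pull g) _ _
      (isColimitCofanMkObjOfIsColimit (EtCoh.Rpush f q) _ _ (isColimit_cm Λ X M hℓ b)))
      (Cocone.ext ((EtCoh.pull g).mapIso (N.symm.app C) ≪≫ asIso pc) fun ⟨i⟩ => ?_)
    exact (reassoc_of% ((EtCoh.pull g).map_comp ((EtCoh.Rpush f q).map (cm Λ X M hℓ (b i))) (N.inv.app C)).symm) pc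
  rw [EtTrivGen.isFTLocConst_iff]
  intro Ω _ _ ξ
  obtain ⟨U, u₀, V, iV, fV, τ, hu₀, hτ⟩ := (EtFLC.isFLC_iff A).1 hG (ξ default)
  haveI : Etale U.hom := U.prop
  obtain ⟨y₀, -⟩ := Scheme.pointSmallEtaleFiberObjToPreimage_surjective ξ (s₀ := ξ default) rfl U ⟨u₀, hu₀⟩
  have hAℓ : EtCoh.KilledBy ℓ A := by
    have h0 : (ℓ • 𝟙 (EtCoh.const X (ZMod ℓ)) : _ ⟶ _) = 0 := (EtPBC.killed_iff _ _).1 (EtPBC.killed_const X ℓ)
    rw [EtBCQ.killedBy_iff]
    show ℓ • 𝟙 ((EtCoh.pull g).obj ((EtCoh.Rpush f q).obj (EtCoh.const X (ZMod ℓ)))) = 0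
    rw [← (EtCoh.pull g).map_id, ← (EtCoh.Rpush f q).map_id, ← Functor.map_nsmul, ← Functor.map_nsmul, h0,
      Functor.map_zero, Functor.map_zero]
  have hVℓ : ∀ v : V, ℓ • v = 0 := fun v => by
    refine hτ.inj (𝟙 U) (ℓ • v) ?_ u₀
    rw [map_nsmul, hAℓ, map_zero]
  letI : Module (ZMod ℓ) V := AddCommGroup.zmodModule hVℓ
  let s₀ : M →+ V →+ (B.obj.obj (op U) : Type (u + 1)) :=
    AddMonoidHom.mk' (fun a => ((ψ a).hom.app (op U)).hom.comp τ) fun a a' => by rw [hψadd]; rfl
  let s : M ⊗[ℤ] V →+ (B.obj.obj (op U) : Type (u + 1)) := TensorProduct.liftAddHom s₀ fun z a v => by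
    rw [map_zsmul, map_zsmul]
    rfl
  let σ : M ⊗[ℤ] V →ₗ[Λ] (R'.obj.obj (op U) : Type (u + 1)) :=
    { toFun := s
      map_add' := s.map_add
      map_smul' := fun r x => by
        induction x using TensorProduct.induction_on with
        | zero => simp only [smul_zero, map_zero]
        | add x y hx hy => rw [smul_add, map_add, map_add, hx, hy]; exact (smul_add r (_ : (R'.obj.obj (op U) : Type (u + 1))) _).symm
        | tmul a v =>
          rw [TensorProduct.smul_tmul']
          show ((ψ (r • a)).hom.app (op U)).hom (τ v) = _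
          rw [hψsmul]
          rfl }
  refine ⟨U, y₀, M ⊗[ℤ] V, inferInstance, inferInstance, finite_tensor Λ M V, σ, ?_⟩
  have hA : EtTrivGen.IsTrivG A U (fun v => τ v) :=
    { surj := fun {W} k x w => by
        obtain ⟨W', h, w', m, hw, hm⟩ := hτ.surj k x w
        exact ⟨W', h, m, ⟨w', hw⟩, hm⟩
      inj := fun {W} k m m' hm w => by
        refine sub_eq_zero.1 (hτ.inj k (m - m') ?_ w)
        rw [map_sub, map_sub]
        exact sub_eq_zero.2 hm }
  have hB : EtTrivGen.IsTrivG B U (fun x => s x) := by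
    rw [EtTrivGen.isTrivG_iff] at hA ⊢
    intro Ω' _ _ η y
    let sA : V →+ ((EtCoh.stalk η).obj A : Type (u + 1)) :=
      ((Scheme.pointSmallEtale η).toPresheafFiber U y A.obj).hom.comp τ
    let sB : M ⊗[ℤ] V →+ ((EtCoh.stalk η).obj B : Type (u + 1)) :=
      ((Scheme.pointSmallEtale η).toPresheafFiber U y B.obj).hom.comp s
    have hsA : Function.Bijective sA := hA Ω' η y
    haveI : PreservesColimitsOfShape (Discrete I) (EtCoh.stalk η) :=
      inferInstance
    have hlift := bijective_liftAddHom_of_isColimit (fun i => (EtCoh.stalk η).map (ψ (b i)))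
      (isColimitCofanMkObjOfIsColimit (EtCoh.stalk η) _ _ hcol)
    have hcomp : sB.comp (theta b) =
        (Finsupp.liftAddHom fun i => ((EtCoh.stalk η).map (ψ (b i))).hom).comp (Finsupp.mapRange.addMonoidHom sA) := by
      refine Finsupp.addHom_ext fun i v => ?_
      show sB (theta b (Finsupp.single i v)) =
        Finsupp.liftAddHom (fun i => ((EtCoh.stalk η).map (ψ (b i))).hom) (Finsupp.mapRange sA sA.map_zero (Finsupp.single i v))
      rw [theta, Finsupp.liftAddHom_apply_single, Finsupp.mapRange_single, Finsupp.liftAddHom_apply_single]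
      exact (ConcreteCategory.congr_hom
        ((Scheme.pointSmallEtale η).toPresheafFiber_naturality (ψ (b i)).hom U y) (τ v)).symm
    have h3 : Function.Bijective (sB.comp (theta b)) := by
      rw [hcomp]
      exact hlift.comp ⟨Finsupp.mapRange_injective sA sA.map_zero hsA.1,
        Finsupp.mapRange_surjective sA sA.map_zero hsA.2⟩
    exact (Function.Bijective.of_comp_iff sB (bijective_theta b)).1 h3
  exact ⟨fun k x w => hB.surj k x w, fun k m m' hm w => hB.inj k m m' hm w⟩

theorem isFTLocConst_pull_Rpush {X S T : Scheme.{u}} (f : X ⟶ S) [QuasiCompact f] [QuasiSeparated f]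
    (ℓ : ℕ) [Fact ℓ.Prime] (hℓ : ∀ m : M, ℓ • m = 0) [Module.Finite Λ M] (q : ℕ) (g : T ⟶ S)
    (hG : EtCoh.IsFiniteLocallyConstant ((EtCoh.pull g).obj ((EtCoh.Rpush f q).obj (EtCoh.const X (ZMod ℓ))))) :
    EtModW.IsFTLocConst Λ ((EtModW.pull Λ g).obj ((EtModW.Rpush Λ f q).obj (EtModW.constMod Λ X M))) :=
  letI : Module (ZMod ℓ) M := AddCommGroup.zmodModule hℓ
  isFTLocConst_pull_Rpush_basis Λ M f ℓ hℓ (Module.Basis.ofVectorSpace (ZMod ℓ) M) q g hG

end Groth.Agent.EtModCons
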