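import Groth.Agent.EtModCons.Core
import Groth.Agent.EtConsPush.AnyBase
import Groth.Agent.EtTrivGen.AdicCons
import Mathlib

/-!
# Higher direct images of constant sheaves of modules along proper morphisms are constructible
-/

set_option autoImplicit false
set_option backward.isDefEq.respectTransparency false
set_option backward.isDefEq.respectTransparency.types false
set_option linter.style.haveILetI false
set_option linter.unusedSectionVars false
set_option linter.auxLemma false
set_option maxHeartbeats 1000000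
set_option synthInstance.maxHeartbeats 400000

universe u

open CategoryTheory CategoryTheory.Limits AlgebraicGeometry Opposite

attribute [local instance] HasDerivedCategory.standard

noncomputable section

namespace Groth.Agent.EtModCons

variable (Λ : Type (u + 1)) [CommRing Λ] {X S : Scheme.{u}} (f : X ⟶ S)

theorem constantSheafMod_exact (X : Scheme.{u}) :
    PreservesFiniteLimits (constantSheaf X.smallEtaleTopology (ModuleCat.{u + 1} Λ)) ∧
    PreservesFiniteColimits (constantSheaf X.smallEtaleTopology (ModuleCat.{u + 1} Λ)) ∧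
    (constantSheaf X.smallEtaleTopology (ModuleCat.{u + 1} Λ)).Additive := by
  let adj := constantSheafAdj X.smallEtaleTopology (ModuleCat.{u + 1} Λ) (EtCore.topIsTerminal X)
  refine ⟨inferInstanceAs (PreservesFiniteLimits (Functor.const X.Etaleᵒᵖ ⋙ presheafToSheaf _ (ModuleCat.{u + 1} Λ))),
    ?_, @Functor.additive_of_preserves_binary_products _ _ _ _ _ _ _ _ ?_ ?_⟩
  all_goals
    haveI : PreservesColimitsOfSize.{0, 0} (constantSheaf X.smallEtaleTopology (ModuleCat.{u + 1} Λ)) :=
      adj.leftAdjoint_preservesColimits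
    haveI : PreservesFiniteLimits (constantSheaf X.smallEtaleTopology (ModuleCat.{u + 1} Λ)) :=
      inferInstanceAs (PreservesFiniteLimits (Functor.const X.Etaleᵒᵖ ⋙ presheafToSheaf _ (ModuleCat.{u + 1} Λ)))
    infer_instance

variable [IsProper f] [LocallyOfFinitePresentation f] [IsNoetherianRing Λ]

/-- modules killed by a prime -/
theorem isConstructible_Rpush_constMod_prime (ℓ : ℕ) [Fact ℓ.Prime] (M : Type (u + 1)) [AddCommGroup M] [Module Λ M]
    [Module.Finite Λ M] (hℓ : ∀ m : M, ℓ • m = 0) (q : ℕ) :
    EtModW.IsConstructible Λ ((EtModW.Rpush Λ f q).obj (EtModW.constMod Λ X M)) := by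
  haveI : NeZero ℓ := ⟨(Fact.out : ℓ.Prime).ne_zero⟩
  have hG := EtConsPush.isConstructible_Rpush_proper f (Fact.out : ℓ.Prime).pos _
    (EtCons.isConstructible_const (W := X) (ZMod ℓ)) (EtPBC.killed_const X ℓ) q
  rw [EtTrivGen.isConstructible_iff_goodAt]
  intro x
  obtain ⟨U, hU, hxU, T, g, C, hg, hC, hxC, hCg, hflc⟩ := (EtCons.isConstructible_iff _).1 hG x
  exact ⟨U, hU, hxU, T, g, C, hg, hC, hxC, hCg, isFTLocConst_pull_Rpush Λ M f ℓ hℓ q g hflc⟩

/-- **modules killed by a positive integer** -/
theorem isConstructible_Rpush_constMod : ∀ (n : ℕ), 0 < n → ∀ (M : Type (u + 1)) [AddCommGroup M] [Module Λ M]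
    [Module.Finite Λ M], (∀ m : M, n • m = 0) → ∀ q : ℕ,
    EtModW.IsConstructible Λ ((EtModW.Rpush Λ f q).obj (EtModW.constMod Λ X M)) := by
  intro n
  induction n using Nat.strong_induction_on with
  | _ n ih =>
    intro hn M _ _ _ hM q
    by_cases h1 : n = 1
    · haveI : Fact (Nat.Prime 2) := ⟨Nat.prime_two⟩
      refine isConstructible_Rpush_constMod_prime Λ f 2 M (fun m => ?_) q
      have hm := hM m
      rw [h1, one_smul] at hm
      rw [hm, smul_zero]
    · haveI : Fact n.minFac.Prime := ⟨Nat.minFac_prime h1⟩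
      obtain ⟨k, hk⟩ := n.minFac_dvd
      have hk0 : 0 < k := by
        rcases Nat.eq_zero_or_pos k with rfl | h
        · omega
        · exact h
      have hkn : k < n := by
        rw [hk]; exact lt_mul_of_one_lt_left hk0 (Nat.minFac_prime h1).one_lt
      let N : Submodule Λ M := LinearMap.range (n.minFac • (LinearMap.id : M →ₗ[Λ] M))
      have hN : ∀ m : N, k • m = 0 := by
        rintro ⟨_, m, rfl⟩
        refine Subtype.ext ?_
        show k • (n.minFac • m) = 0
        rw [smul_smul, mul_comm, ← hk, hM]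
      have hQ : ∀ m : M ⧸ N, n.minFac • m = 0 := fun m => by
        obtain ⟨m, rfl⟩ := Submodule.Quotient.mk_surjective N m
        rw [← Submodule.Quotient.mk_smul, Submodule.Quotient.mk_eq_zero]
        exact ⟨m, rfl⟩
      let T : ShortComplex (ModuleCat.{u + 1} Λ) :=
        ShortComplex.mk (ModuleCat.ofHom N.subtype) (ModuleCat.ofHom N.mkQ)
          (ModuleCat.hom_ext (LinearMap.ext fun x => (Submodule.Quotient.mk_eq_zero N).2 x.2))
      have hT : T.ShortExact :=
        { exact := ShortComplex.Exact.moduleCat_of_range_eq_ker _ _ (by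
            show LinearMap.range N.subtype = LinearMap.ker N.mkQ
            rw [Submodule.range_subtype, Submodule.ker_mkQ])
          mono_f := (ModuleCat.mono_iff_injective _).2 Subtype.val_injective
          epi_g := (ModuleCat.epi_iff_surjective _).2 (Submodule.Quotient.mk_surjective N) }
      obtain ⟨_, _, _⟩ := constantSheafMod_exact Λ X
      have hS := hT.map_of_exact (constantSheaf X.smallEtaleTopology (ModuleCat.{u + 1} Λ))
      haveI := EtTrivGen.isWeakSerre_consP (Λ := Λ) (X := S)
      let Δ := RDerLib.derivedLES (EtModW.push Λ f)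
      have hA : ∀ i, EtModW.IsConstructible Λ ((EtModW.Rpush Λ f i).obj (EtModW.constMod Λ X N)) :=
        fun i => ih k hkn hk0 N hN i
      have hB : ∀ i, EtModW.IsConstructible Λ ((EtModW.Rpush Λ f i).obj (EtModW.constMod Λ X (M ⧸ N))) :=
        fun i => isConstructible_Rpush_constMod_prime Λ f n.minFac (M ⧸ N) hQ i
      obtain ⟨O, hO, hPO⟩ := (EtTrivGen.consP Λ S).exists_prop_of_containsZero
      rcases q with _ | q
      · haveI : PreservesLimitsOfSize.{0, 0} (EtModW.push Λ f) :=
          (EtSix.pullPushModAdj Λ f).rightAdjoint_preservesLimits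
        haveI : PreservesFiniteLimits (EtModW.push Λ f) := inferInstance
        haveI := hS.mono_f
        let e := (EtModW.push Λ f).rightDerivedZeroIsoSelf
        haveI : ((EtModW.push Λ f).rightDerived 0).PreservesMonomorphisms :=
          Functor.PreservesMonomorphisms.of_iso e.symm
        exact WayOut.prop_of_exact₅ (EtTrivGen.consP Λ S) (0 : O ⟶ _) _ _ (Δ.δ _ hS 0 1 rfl) zero_comp _ _
          ((ShortComplex.exact_iff_mono _ rfl).2 inferInstance) (Δ.exact₂ _ hS 0) (Δ.exact₃ _ hS 0 1 rfl)
          hPO (hA 0) (hB 0) (hA 1)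
      · exact WayOut.prop_of_exact₅ (EtTrivGen.consP Λ S) _ _ _ (Δ.δ _ hS (q + 1) (q + 2) rfl) _ _ _
          (Δ.exact₁ _ hS q (q + 1) rfl) (Δ.exact₂ _ hS (q + 1)) (Δ.exact₃ _ hS (q + 1) (q + 2) rfl)
          (hB q) (hA (q + 1)) (hB (q + 1)) (hA (q + 2))

end Groth.Agent.EtModCons
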